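import Cfsg.Agent.Lib.HeType.Tri.Mathieu.Cert
import Cfsg.Agent.Lib.HeType.Tri.Iso
import Cfsg.Agent.Lib.HeType.Tri.Rels
import Cfsg.Agent.Lib.HeType.Coords.Mul
import Cfsg.Agent.Lib.HeType.Cert.FastEq
import Cfsg.Agent.Lib.M24Cert.OctInv

/-!
# The Mathieu group on 24 points satisfies the certificate, and every system with it is this group
-/

set_option autoImplicit false
set_option maxRecDepth 100000
set_option linter.unusedSectionVars false

namespace CfsgLib.HeType.Tri.Mathieu

open Cfsg CfsgLib.Golay CfsgLib.M24Cert CfsgLib.HeType.Cert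
open CfsgLib.M24Cert.OctInv (eqL eqL_iff)
open scoped Classical

/-- The involution. -/
def tL : List ℕ :=
  [1, 0, 23, 17, 22, 14, 6, 7, 18, 9, 10, 12, 11, 16, 5, 15, 13, 3, 8, 19, 20, 21, 4, 2]

/-- The element of order seven. -/
def xL : List ℕ :=
  [0, 1, 3, 4, 13, 8, 21, 9, 2, 6, 15, 5, 14, 11, 18, 7, 12, 22, 23, 10, 20, 19, 16, 17]

/-- The element of order three. -/
def yL : List ℕ :=
  [0, 1, 2, 4, 11, 13, 7, 21, 5, 10, 15, 3, 17, 8, 16, 9, 18, 22, 14, 19, 20, 6, 12, 23]

/-- The third generator. -/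
def rL : List ℕ :=
  [23, 2, 0, 18, 16, 11, 6, 21, 3, 9, 15, 14, 5, 4, 12, 10, 22, 8, 17, 19, 20, 7, 13, 1]

/-- The first three generators. -/
def aL : List (List ℕ) := [
  [0, 1, 23, 17, 22, 5, 9, 10, 8, 6, 7, 12, 11, 13, 14, 21, 16, 3, 18, 20, 19, 15, 4, 2],
  [0, 1, 2, 17, 22, 14, 21, 19, 8, 15, 20, 11, 12, 16, 5, 9, 13, 3, 18, 7, 10, 6, 4, 23],
  [0, 1, 2, 3, 22, 5, 7, 6, 18, 10, 9, 12, 11, 16, 14, 20, 13, 17, 8, 21, 15, 19, 4, 23]]

/-- The other three. -/
def bL : List (List ℕ) := [
  [23, 2, 1, 5, 13, 3, 6, 7, 11, 9, 10, 8, 18, 4, 17, 15, 22, 14, 12, 19, 20, 21, 16, 0],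
  [17, 3, 5, 1, 8, 2, 6, 7, 4, 9, 10, 13, 16, 11, 23, 15, 12, 0, 22, 19, 20, 21, 18, 14],
  [22, 4, 13, 8, 1, 11, 6, 7, 3, 9, 10, 5, 14, 2, 12, 15, 23, 18, 17, 19, 20, 21, 0, 16]]

/-- The element permuting the involutions of the line. -/
def sL : List ℕ :=
  [17, 3, 21, 20, 7, 2, 13, 8, 4, 16, 18, 6, 9, 11, 23, 14, 12, 19, 22, 0, 1, 5, 10, 15]

/-- The lists used. -/
def genL : List (List ℕ) := [tL, xL, yL, rL, sL] ++ aL ++ bL

/-- The product of lists. -/
def wL (ws : List (List ℕ)) : List ℕ := ws.foldr compL (List.range 24)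

/-- A list or nothing. -/
def sel (e : Bool) (L : List ℕ) : List (List ℕ) := if e then [L] else []

/-- The factors of a code of the extraspecial group. -/
def qItems (v : ℕ) : List (List ℕ) :=
  sel (v.testBit 0) (aL.getD 0 []) ++ sel (v.testBit 1) (aL.getD 1 []) ++ sel (v.testBit 2) (aL.getD 2 []) ++
    (sel ((v / 8).testBit 0) (bL.getD 0 []) ++ sel ((v / 8).testBit 1) (bL.getD 1 []) ++
      sel ((v / 8).testBit 2) (bL.getD 2 [])) ++ sel (v.testBit 6) tL

/-- One of the three generators. -/
def gLst (k : ℕ) : List ℕ := if k = 0 then xL else if k = 1 then yL else rL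

/-- The factors of a code. -/
def cItems (c : ℕ) : List (List ℕ) := qItems (c % 128) ++ (lPaths.getD (c / 128) []).map gLst

/-- The element of a list. -/
noncomputable def el (L : List ℕ) : ↥M24 := if h : pL L ∈ M24 then ⟨pL L, h⟩ else 1

/-- The list is a permutation in the group. -/
def Good (L : List ℕ) : Prop := validL 24 L = true ∧ pL L ∈ M24

theorem el_coe {L : List ℕ} (h : Good L) : ((el L : ↥M24) : Equiv.Perm GolayPt) = pL L := by
  simp [el, h.2]

theorem good_range : Good (List.range 24) := ⟨by decide +kernel, by rw [pL_range]; exact one_mem _⟩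

theorem el_range : el (List.range 24) = 1 := Subtype.ext (by rw [el_coe good_range, pL_range]; rfl)

theorem good_comp {A B : List ℕ} (hA : Good A) (hB : Good B) :
    Good (compL A B) ∧ el (compL A B) = el A * el B := by
  have h : Good (compL A B) :=
    ⟨validL_compL hA.1 hB.1, by rw [pL_compL hA.1 hB.1]; exact mul_mem hA.2 hB.2⟩
  exact ⟨h, Subtype.ext (by rw [Subgroup.coe_mul, el_coe h, el_coe hA, el_coe hB, pL_compL hA.1 hB.1])⟩

theorem good_wL : ∀ ws : List (List ℕ), (∀ L ∈ ws, Good L) → Good (wL ws) ∧ el (wL ws) = (ws.map el).prod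
  | [], _ => ⟨good_range, by simpa [wL] using el_range⟩
  | A :: ws, h => by
    obtain ⟨h1, h2⟩ := good_wL ws fun L hL => h L (by simp [hL])
    obtain ⟨h3, h4⟩ := good_comp (h A (by simp)) h1
    exact ⟨h3, by rw [show wL (A :: ws) = compL A (wL ws) from rfl, h4, h2]; simp⟩

theorem gen_test : genL.all m24Test = true := by decide +kernel

theorem good_gen {L : List ℕ} (h : L ∈ genL) : Good L :=
  have ht := List.all_eq_true.1 gen_test L h
  ⟨valid_of_m24Test ht, mem_M24_of_test ht⟩

/-- Two words in the lists used have the same product. -/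
def chk (us vs : List (List ℕ)) : Bool :=
  us.all genL.contains && vs.all genL.contains && eqL (wL us) (wL vs)

theorem chk_spec {us vs : List (List ℕ)} (h : chk us vs = true) : (us.map el).prod = (vs.map el).prod := by
  simp only [chk, Bool.and_eq_true, List.all_eq_true, List.contains_iff_mem, eqL_iff] at h
  rw [← (good_wL us fun L hL => good_gen (h.1.1 L hL)).2, ← (good_wL vs fun L hL => good_gen (h.1.2 L hL)).2, h.2]

/-- The involution. -/
noncomputable def tM : ↥M24 := el tL
/-- The first three generators. -/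
noncomputable def aM (i : ℕ) : ↥M24 := el (aL.getD i [])
/-- The other three. -/
noncomputable def bM (i : ℕ) : ↥M24 := el (bL.getD i [])
/-- The element of order seven. -/
noncomputable def xM : ↥M24 := el xL
/-- The element of order three. -/
noncomputable def yM : ↥M24 := el yL
/-- The third generator. -/
noncomputable def rM : ↥M24 := el rL
/-- The element permuting the line. -/
noncomputable def sM (_ : ℕ) : ↥M24 := el sL
/-- The element of a code. -/
noncomputable def fM (c : ℕ) : ↥M24 := cEl tM aM bM xM yM rM c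

theorem qItems_prod (v : ℕ) : ((qItems v).map el).prod = qEl tM aM bM v := by
  have e : ∀ (e : Bool) (L : List ℕ), ((sel e L).map el).prod = if e then el L else 1 := fun e L => by
    cases e <;> simp [sel]
  simp only [qItems, List.map_append, List.prod_append, e]
  rfl

theorem gL_el (k : ℕ) : gL xM yM rM k = el (gLst k) := by
  unfold gL gLst
  split_ifs <;> rfl

theorem cItems_prod (c : ℕ) : ((cItems c).map el).prod = fM c := by
  simp only [cItems, List.map_append, List.prod_append, qItems_prod, List.map_map]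
  rw [show fM c = qEl tM aM bM (c % 128) * lWord xM yM rM (lPaths.getD (c / 128) []) from rfl]
  congr 2
  exact List.map_congr_left fun k _ => (gL_el k).symm

theorem ne_one_of {L : List ℕ} (hg : Good L) (h : eqL L (List.range 24) = false) : el L ≠ 1 := by
  intro e
  rw [← el_range] at e
  have e' := congrArg (fun g : ↥M24 => (g : Equiv.Perm GolayPt)) e
  simp only [el_coe hg, el_coe good_range] at e'
  rw [pL_inj hg.1 good_range.1 e', (eqL_iff (A := List.range 24)).2 rfl] at h
  exact Bool.noConfusion h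

theorem frame : ExFrame tM aM bM := by
  have h1 : chk [tL, tL] [] = true ∧
      (List.range 3).all (fun i =>
        chk [tL, aL.getD i []] [aL.getD i [], tL] && chk [tL, bL.getD i []] [bL.getD i [], tL] &&
        chk [aL.getD i [], aL.getD i []] [] && chk [bL.getD i [], bL.getD i []] [] &&
        (List.range 3).all (fun j => chk [aL.getD i [], aL.getD j []] [aL.getD j [], aL.getD i []] &&
          chk [bL.getD i [], bL.getD j []] [bL.getD j [], bL.getD i []] &&
          chk [bL.getD j [], aL.getD i []] ([aL.getD i [], bL.getD j []] ++ sel (gramH i j) tL))) = true := by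
    decide +kernel
  obtain ⟨h0, h1⟩ := h1
  simp only [List.all_eq_true, List.mem_range, Bool.and_eq_true] at h1
  refine ⟨by simpa [tM] using chk_spec h0, ne_one_of (good_gen (by decide +kernel)) (by decide +kernel),
    fun i hi => ?_, fun i hi => ?_, fun i hi => ?_, fun i hi => ?_, fun i hi j hj => ?_, fun i hi j hj => ?_,
    fun i hi j hj => ?_⟩
  · simpa [Commute, SemiconjBy, tM, aM] using chk_spec (h1 i hi).1.1.1.1
  · simpa [Commute, SemiconjBy, tM, bM] using chk_spec (h1 i hi).1.1.1.2
  · simpa [aM] using chk_spec (h1 i hi).1.1.2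
  · simpa [bM] using chk_spec (h1 i hi).1.2
  · simpa [Commute, SemiconjBy, aM] using chk_spec ((h1 i hi).2 j hj).1.1
  · simpa [Commute, SemiconjBy, bM] using chk_spec ((h1 i hi).2 j hj).1.2
  · have e := chk_spec ((h1 i hi).2 j hj).2
    cases hg : gramH i j <;> simpa [hg, sel, tB, aM, bM, tM, mul_assoc] using e

theorem gen_mem : ∀ k, gLst k ∈ genL := fun k => by
  unfold gLst
  split_ifs <;> decide +kernel

theorem conj_gen : ∀ k < 3, Commute (gL xM yM rM k) tM ∧ ∀ i < 6, gL xM yM rM k * qEl tM aM bM (2 ^ i) *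
    (gL xM yM rM k)⁻¹ = qEl tM aM bM ((imOf R0 k).getD i 0) := by
  have h : (List.range 3).all (fun k => chk [gLst k, tL] [tL, gLst k] && (List.range 6).all (fun i =>
      chk (gLst k :: qItems (2 ^ i)) (qItems ((imOf R0 k).getD i 0) ++ [gLst k]))) = true := by decide +kernel
  simp only [List.all_eq_true, List.mem_range, Bool.and_eq_true] at h
  intro k hk
  refine ⟨?_, fun i hi => ?_⟩
  · simpa [Commute, SemiconjBy, gL_el, tM] using chk_spec (h k hk).1
  · have e := chk_spec ((h k hk).2 i hi)
    simp only [List.map_cons, List.prod_cons, List.map_append, List.prod_append, qItems_prod, List.map_nil,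
      List.prod_nil, mul_one] at e
    rw [gL_el, e, mul_inv_cancel_right]

theorem rel_checks : xM ^ 7 = 1 ∧ yM ^ 3 = 1 ∧ yM * xM * yM⁻¹ = xM * xM ∧ rM * yM * rM⁻¹ = yM * yM ∧
    rM * rM = tM ∧ xM * rM * (xM * rM) * (xM * rM) = 1 := by
  have h : chk (List.replicate 7 xL) [] = true ∧ chk (List.replicate 3 yL) [] = true ∧
      chk [yL, xL] [xL, xL, yL] = true ∧ chk [rL, yL] [yL, yL, rL] = true ∧ chk [rL, rL] [tL] = true ∧
      chk [xL, rL, xL, rL, xL, rL] [] = true := by decide +kernel
  obtain ⟨a, b, c, d, e, f⟩ := h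
  refine ⟨?_, ?_, ?_, ?_, ?_, ?_⟩
  · have := chk_spec a
    rw [List.map_replicate, List.prod_replicate] at this
    exact this
  · have := chk_spec b
    rw [List.map_replicate, List.prod_replicate] at this
    exact this
  · have := chk_spec c
    simp only [List.map_cons, List.map_nil, List.prod_cons, List.prod_nil, mul_one] at this
    simp only [xM, yM]
    rw [this, ← mul_assoc, mul_inv_cancel_right]
  · have := chk_spec d
    simp only [List.map_cons, List.map_nil, List.prod_cons, List.prod_nil, mul_one] at this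
    simp only [rM, yM]
    rw [this, ← mul_assoc, mul_inv_cancel_right]
  · simpa [rM, tM] using chk_spec e
  · simpa [xM, rM, mul_assoc] using chk_spec f

theorem gens_C : (∀ v, qEl tM aM bM v ∈ Subgroup.centralizer ({tM} : Set ↥M24)) ∧
    ∀ k < 3, gL xM yM rM k ∈ Subgroup.centralizer ({tM} : Set ↥M24) := by
  refine ⟨fun v => ?_, fun k hk => Subgroup.mem_centralizer_singleton_iff.2 (conj_gen k hk).1.eq⟩
  have hi : ∀ (e : Bool) (g : ↥M24), Commute tM g →
      (if e then g else 1) ∈ Subgroup.centralizer ({tM} : Set ↥M24) := fun e g hg => by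
    cases e
    · simp [one_mem]
    · simpa [Subgroup.mem_centralizer_singleton_iff] using hg.eq.symm
  exact mul_mem (mul_mem (mul_mem (mul_mem (hi _ _ (frame.ta 0 (by norm_num))) (hi _ _ (frame.ta 1 (by norm_num))))
    (hi _ _ (frame.ta 2 (by norm_num)))) (mul_mem (mul_mem (hi _ _ (frame.tb 0 (by norm_num)))
    (hi _ _ (frame.tb 1 (by norm_num)))) (hi _ _ (frame.tb 2 (by norm_num))))) (hi _ _ (Commute.refl tM))

theorem lAct_word : ∀ w : List ℕ, (∀ k ∈ w, k < 3) → lWord xM yM rM w ∈ Subgroup.centralizer ({tM} : Set ↥M24) ∧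
    ∀ v < 128, lWord xM yM rM w * qEl tM aM bM v =
      qEl tM aM bM (w.foldr (fun k u => qAut (imOf R0 k) u) v) * lWord xM yM rM w ∧
      w.foldr (fun k u => qAut (imOf R0 k) u) v < 128 := by
  intro w
  induction w with
  | nil => exact fun _ => ⟨by simp [lWord, one_mem], fun v hv => by simp [lWord, hv]⟩
  | cons k w ih =>
    intro hw
    obtain ⟨i1, i2⟩ := ih fun j hj => hw j (by simp [hj])
    have hk := hw k (by simp)
    have e : lWord xM yM rM (k :: w) = gL xM yM rM k * lWord xM yM rM w := by simp [lWord]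
    refine ⟨by rw [e]; exact mul_mem (gens_C.2 k hk) i1, fun v hv => ?_⟩
    obtain ⟨j1, j2⟩ := i2 v hv
    refine ⟨?_, qAut_lt _ _⟩
    rw [e, mul_assoc, j1, List.foldr_cons, ← frame.conj_el (conj_gen k hk).1 (conj_gen k hk).2 j2]
    group

/-- The action of a class on the six generators modulo the centre. -/
def sig (l : ℕ) : List ℕ := (List.range 6).map fun i => lAct R0 l (2 ^ i) % 64

theorem sig_nodup : ((List.range 168).map sig).Nodup := by decide +kernel

theorem qInv : ∀ v < 128, ∃ w < 128, qMul v w = 0 := by decide +kernel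

theorem qMul_mod (v w : ℕ) : qMul v w % 64 = v % 64 ^^^ w % 64 := by
  rw [show (64 : ℕ) = 2 ^ 6 from rfl, ← Nat.xor_mod_two_pow]
  unfold qMul
  split_ifs <;> omega

theorem pair_inj {v v' l m : ℕ} (hv : v < 128) (hv' : v' < 128) (hl : l < 168) (hm : m < 168)
    (h : qEl tM aM bM v * lWord xM yM rM (lPaths.getD l []) =
      qEl tM aM bM v' * lWord xM yM rM (lPaths.getD m [])) : v = v' ∧ l = m := by
  have hlt : ∀ n, ∀ k ∈ lPaths.getD n [], k < 3 := fun n k hk => lPaths_small hk
  have hsig : sig l = sig m := by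
    refine List.map_congr_left fun i hi => ?_
    have hp : 2 ^ i < 128 := by
      have := List.mem_range.1 hi
      calc 2 ^ i ≤ 2 ^ 6 := Nat.pow_le_pow_right (by norm_num) (by omega)
        _ < 128 := by norm_num
    obtain ⟨a1, a2⟩ := (lAct_word _ (hlt l)).2 _ hp
    obtain ⟨b1, b2⟩ := (lAct_word _ (hlt m)).2 _ hp
    simp only [← show lAct R0 l (2 ^ i) = (lPaths.getD l []).foldr (fun k u => qAut (imOf R0 k) u) (2 ^ i) from rfl] at a1 a2
    simp only [← show lAct R0 m (2 ^ i) = (lPaths.getD m []).foldr (fun k u => qAut (imOf R0 k) u) (2 ^ i) from rfl] at b1 b2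
    set A := lAct R0 l (2 ^ i)
    set B := lAct R0 m (2 ^ i)
    obtain ⟨w, hw, ew⟩ := qInv v hv
    obtain ⟨w', hw', ew'⟩ := qInv v' hv'
    have cong : qEl tM aM bM (qMul (qMul v A) w) = qEl tM aM bM (qMul (qMul v' B) w') := by
      have iv : ∀ {u z : ℕ}, qMul u z = 0 → qEl tM aM bM z = (qEl tM aM bM u)⁻¹ := fun {u z} e =>
        eq_inv_of_mul_eq_one_right (by rw [frame.el_mul, e, frame.el_zero])
      rw [← frame.el_mul, ← frame.el_mul, ← frame.el_mul, ← frame.el_mul, iv ew, iv ew']
      calc qEl tM aM bM v * qEl tM aM bM A * (qEl tM aM bM v)⁻¹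
          = qEl tM aM bM v * (qEl tM aM bM A * lWord xM yM rM (lPaths.getD l [])) *
              (qEl tM aM bM v * lWord xM yM rM (lPaths.getD l []))⁻¹ := by group
        _ = qEl tM aM bM v * lWord xM yM rM (lPaths.getD l []) * qEl tM aM bM (2 ^ i) *
              (qEl tM aM bM v * lWord xM yM rM (lPaths.getD l []))⁻¹ := by rw [← a1]; group
        _ = qEl tM aM bM v' * (qEl tM aM bM B * lWord xM yM rM (lPaths.getD m [])) *
              (qEl tM aM bM v' * lWord xM yM rM (lPaths.getD m []))⁻¹ := by rw [h, ← b1]; group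
        _ = _ := by group
    have e := congrArg (· % 64) (frame.el_inj (qMul_lt _ _) (qMul_lt _ _) cong)
    have z : ∀ {u x : ℕ}, qMul u x = 0 → u % 64 ^^^ x % 64 = 0 := fun {u x} e => by rw [← qMul_mod, e]
    simp only [qMul_mod] at e
    have zw := z ew
    have zw' := z ew'
    rw [Nat.xor_comm (v % 64) (A % 64), Nat.xor_assoc, zw, Nat.xor_zero, Nat.xor_comm (v' % 64) (B % 64),
      Nat.xor_assoc, zw', Nat.xor_zero] at e
    exact e
  obtain rfl : l = m := (List.Nodup.getElem_inj_iff sig_nodup (i := l) (hi := by simpa using hl) (j := m)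
    (hj := by simpa using hm)).1 (by simpa using hsig)
  exact ⟨frame.el_inj hv hv' (mul_right_cancel h), rfl⟩

/-- The extraspecial subgroup. -/
def QM : Subgroup ↥M24 where
  carrier := {g | ∃ v < 128, qEl tM aM bM v = g}
  one_mem' := ⟨0, by norm_num, frame.el_zero⟩
  mul_mem' := by
    rintro _ _ ⟨v, hv, rfl⟩ ⟨w, hw, rfl⟩
    exact ⟨qMul v w, qMul_lt _ _, (frame.el_mul v w).symm⟩
  inv_mem' := by
    rintro _ ⟨v, hv, rfl⟩
    obtain ⟨w, hw, e⟩ := qInv v hv
    exact ⟨w, hw, eq_inv_of_mul_eq_one_right (by rw [frame.el_mul, e, frame.el_zero])⟩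

theorem card_QM : Nat.card ↥QM = 128 := by
  have hb : Function.Bijective (fun v : Fin 128 => (⟨qEl tM aM bM v, v.val, v.isLt, rfl⟩ : ↥QM)) := by
    refine ⟨fun v w h => Fin.ext (frame.el_inj v.isLt w.isLt (congrArg Subtype.val h)), ?_⟩
    rintro ⟨_, v, hv, rfl⟩
    exact ⟨⟨v, hv⟩, rfl⟩
  rw [← Nat.card_congr (Equiv.ofBijective _ hb), Nat.card_fin]

theorem card_le : Nat.card ↥(Subgroup.centralizer ({tM} : Set ↥M24)) ≤ 21504 := by
  have hg : Good tL := good_gen (by decide +kernel)
  have ho : orderOf ((tM : ↥M24) : Equiv.Perm GolayPt) = 2 := by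
    rw [Subgroup.orderOf_coe]
    exact orderOf_eq_prime (by rw [pow_two]; exact frame.tt) frame.t_ne
  obtain ⟨u, hu, ⟨-, c⟩ | ⟨e, -⟩⟩ := inv_cases tM.2 ho
  · refine absurd (fixed_card_zero_iff.1 c (pt 6)) (not_not.2 ?_)
    rw [tM, el_coe hg, pL_pt hg.1 (by norm_num)]
    rfl
  · have hz : tM = OctInv.val hu OctInv.zL := by
      apply Subtype.ext
      rw [OctInv.val_coe hu (OctInv.q_mem OctInv.zL_mem.1), OctInv.z_eq, e]
    rw [hz]
    exact OctInv.centralizer_le hu

theorem gen_eq : QM ⊔ Subgroup.closure {xM, yM, rM} = Subgroup.centralizer ({tM} : Set ↥M24) ∧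
    Nat.card ↥(Subgroup.centralizer ({tM} : Set ↥M24)) = 21504 := by
  set H := QM ⊔ Subgroup.closure {xM, yM, rM}
  have hg : ∀ k : ℕ, gL xM yM rM k ∈ H := fun k => by
    refine Subgroup.mem_sup_right (Subgroup.subset_closure ?_)
    unfold gL
    split_ifs <;> simp
  have hle : H ≤ Subgroup.centralizer ({tM} : Set ↥M24) := by
    refine sup_le ?_ ((Subgroup.closure_le _).2 ?_)
    · rintro _ ⟨v, -, rfl⟩
      exact gens_C.1 v
    · rintro g (rfl | rfl | rfl)
      exacts [gens_C.2 0 (by norm_num), gens_C.2 1 (by norm_num), gens_C.2 2 (by norm_num)]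
  have hw : ∀ w : List ℕ, lWord xM yM rM w ∈ H := fun w => list_prod_mem fun z hz => by
    obtain ⟨k, -, rfl⟩ := List.mem_map.1 hz
    exact hg k
  have hinj : Function.Injective (fun p : Fin 128 × Fin 168 =>
      (⟨qEl tM aM bM p.1 * lWord xM yM rM (lPaths.getD p.2 []),
        mul_mem (Subgroup.mem_sup_left ⟨p.1, p.1.isLt, rfl⟩) (hw _)⟩ : ↥H)) := fun p q h => by
    obtain ⟨e1, e2⟩ := pair_inj p.1.isLt q.1.isLt p.2.isLt q.2.isLt (congrArg Subtype.val h)
    exact Prod.ext (Fin.ext e1) (Fin.ext e2)
  have h1 : 21504 ≤ Nat.card ↥H := by simpa using Nat.card_le_card_of_injective _ hinj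
  exact ⟨Subgroup.eq_of_le_of_card_ge hle (card_le.trans h1),
    le_antisymm card_le (h1.trans (Subgroup.card_le_of_le hle))⟩

/-- The coordinates. -/
theorem coords : Coords tM QM R0 true xM yM rM aM bM where
  good := by decide +kernel
  frame := frame
  hQ := fun g => Iff.rfl
  cardQ := card_QM
  cardC := gen_eq.2
  hQC := by rintro _ ⟨v, -, rfl⟩; exact gens_C.1 v
  xC := gens_C.2 0 (by norm_num)
  yC := gens_C.2 1 (by norm_num)
  rC := gens_C.2 2 (by norm_num)
  conjX := (conj_gen 0 (by norm_num)).2
  conjY := (conj_gen 1 (by norm_num)).2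
  conjR := (conj_gen 2 (by norm_num)).2
  x7 := rel_checks.1
  y3 := rel_checks.2.1
  yx := rel_checks.2.2.1
  ry := rel_checks.2.2.2.1
  rr := rel_checks.2.2.2.2.1
  xr := rel_checks.2.2.2.2.2
  gen := gen_eq.1

/-- The factors of a word. -/
def tokItems : Tok → List (List ℕ)
  | .c x => cItems x
  | .s _ => [sL]

theorem sys : Sys data fM sM where
  mul c d hc hd := by
    have h := coords.cEl_mul (c := c) (d := d) hc hd
    rw [fMul_eq hc hd h.2]
    exact h.1
  lt c d hc hd := by
    have h := coords.cEl_mul (c := c) (d := d) hc hd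
    rw [fMul_eq hc hd h.2]
    exact h.2
  inj _ _ hc hd h := coords.cEl_inj hc hd h
  conj k hk x hx := by
    have hk' : k = 0 := by
      simp only [data] at hk
      omega
    subst hk'
    have h : (dgens.getD 0 []).all (fun x => chk (sL :: cItems x.1) (cItems x.2 ++ [sL])) = true := by
      decide +kernel
    have e := chk_spec (List.all_eq_true.1 h x hx)
    simp only [List.map_cons, List.prod_cons, List.map_append, List.prod_append, cItems_prod, List.map_nil,
      List.prod_nil, mul_one] at e
    exact e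
  rel w hw := by
    have hK : 0 < data.K := by decide
    have key : ∀ v : List Tok, (∀ x ∈ v, match x with | .c _ => True | .s k => k = 0) →
        chk (v.flatMap tokItems) [] = true → wEval data fM sM v = 1 := by
      intro v hv hc
      rw [← show (([] : List (List ℕ)).map el).prod = 1 from rfl, ← chk_spec hc]
      clear hc
      induction v with
      | nil => rfl
      | cons x v ih =>
        have e := ih fun y hy => hv y (by simp [hy])
        simp only [wEval, List.map_cons, List.prod_cons, List.flatMap_cons, List.map_append,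
          List.prod_append] at e ⊢
        rw [e]
        congr 1
        cases x with
        | c x => exact (cItems_prod x).symm
        | s k =>
          obtain rfl : k = 0 := hv (.s k) (by simp)
          simp [tokItems, tokEl, sx, hK, sM]
    simp only [data, rels, List.mem_cons, List.not_mem_nil, or_false] at hw
    rcases hw with rfl | rfl | rfl | rfl | rfl
    · exact key _ (by simp) (by decide +kernel)
    · exact key _ (by simp) (by decide +kernel)
    · exact key _ (by simp) (by decide +kernel)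
    · exact wEval_cancel_left data fM sM hK
    · exact wEval_cancel_right data fM sM hK

/-- Words of orders 5, 11 and 23. -/
def primeWords : List (ℕ × List ℕ) := [(5, [648]), (11, [256, 648]), (23, [16437, 128, 128])]

theorem prime_checks : primeWords.all (fun p =>
    let items := p.2.flatMap fun c => cItems c ++ [sL]
    let g := wL items
    items.all genL.contains && eqL (wL (List.replicate p.1 g)) (List.range 24) && !eqL g (List.range 24)) = true := by
  decide +kernel

theorem gen_top : Subgroup.closure (Sys.gensSet data fM sM) = ⊤ := by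
  set E := Subgroup.closure (Sys.gensSet data fM sM) with hE
  by_contra hne
  have hf : ∀ c < NC, fM c ∈ E := fun c hc => Subgroup.subset_closure (Or.inl ⟨c, hc, rfl⟩)
  have hs : el sL ∈ E := Subgroup.subset_closure (Or.inr ⟨0, by decide, rfl⟩)
  have hp : ∀ p ∈ primeWords, p.1.Prime → p.1 ∣ Nat.card ↥E := by
    intro p hp hpr
    have h := List.all_eq_true.1 prime_checks p hp
    simp only [Bool.and_eq_true, List.all_eq_true, List.contains_iff_mem, eqL_iff, Bool.not_eq_true'] at h
    obtain ⟨⟨h1, h2⟩, h3⟩ := h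
    obtain ⟨hg, he⟩ := good_wL _ fun L hL => good_gen (h1 L hL)
    set g := wL (p.2.flatMap fun c => cItems c ++ [sL])
    have hmem : el g ∈ E := by
      have hlt : ∀ c ∈ p.2, c < NC := fun c hc => by
        have := List.all_eq_true.1 (show primeWords.all (fun p => p.2.all fun c => Nat.blt c NC) = true by
          decide +kernel) p hp
        simpa using List.all_eq_true.1 this c hc
      rw [he, List.flatMap, List.map_flatten, List.prod_flatten, List.map_map, List.map_map]
      refine list_prod_mem fun z hz => ?_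
      obtain ⟨c, hc, rfl⟩ := List.mem_map.1 hz
      simp only [Function.comp_apply, List.map_append, List.prod_append, cItems_prod, List.map_cons, List.map_nil,
        List.prod_singleton]
      exact mul_mem (hf c (hlt c hc)) hs
    obtain ⟨-, hpow⟩ := good_wL (List.replicate p.1 g) fun L hL => (List.eq_of_mem_replicate hL) ▸ hg
    rw [h2, el_range, List.map_replicate, List.prod_replicate] at hpow
    have := Fact.mk hpr
    rw [← orderOf_eq_prime hpow.symm (ne_one_of hg h3)]
    exact Subgroup.orderOf_dvd_natCard E hmem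
  have hC : 21504 ∣ Nat.card ↥E := by
    rw [← gen_eq.2]
    refine Subgroup.card_dvd_of_le fun g hg => ?_
    obtain ⟨c, hc, rfl⟩ := coords.cEl_surj hg
    exact hf c hc
  have h5 : 5 ∣ Nat.card ↥E := hp (5, [648]) (by simp [primeWords]) (by norm_num)
  have h11 : 11 ∣ Nat.card ↥E := hp (11, [256, 648]) (by simp [primeWords]) (by norm_num)
  have h23 : 23 ∣ Nat.card ↥E := hp (23, [16437, 128, 128]) (by simp [primeWords]) (by norm_num)
  have hbig : 21504 * 5 * 11 * 23 ∣ Nat.card ↥E :=
    Nat.Coprime.mul_dvd_of_dvd_of_dvd (by norm_num)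
      (Nat.Coprime.mul_dvd_of_dvd_of_dvd (by norm_num)
        (Nat.Coprime.mul_dvd_of_dvd_of_dvd (by norm_num) hC h5) h11) h23
  obtain ⟨k, hk⟩ := hbig
  have hidx := Subgroup.card_mul_index E
  rw [hk, card_M24] at hidx
  have hk1 : 1 ≤ k := Nat.pos_of_ne_zero fun e => by simp [e] at hidx
  have h9 : E.index ≤ 9 := by
    have : k * E.index = 9 := by linarith
    calc E.index = 1 * E.index := (one_mul _).symm
      _ ≤ k * E.index := Nat.mul_le_mul_right _ hk1
      _ = 9 := this
  have : IsSimpleGroup ↥M24 := CfsgLib.Golay.M24_simple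
  have hcore : E.normalCore = ⊥ := (Subgroup.Normal.eq_bot_or_eq_top inferInstance).resolve_right fun e =>
    hne (eq_top_iff.2 (e ▸ Subgroup.normalCore_le E))
  rw [Subgroup.normalCore_eq_ker, MonoidHom.ker_eq_bot_iff] at hcore
  have hcard := Nat.card_le_card_of_injective _ hcore
  rw [card_M24, Nat.card_perm] at hcard
  rw [← Subgroup.index_eq_card] at hcard
  have h' := hcard.trans (Nat.factorial_le h9)
  norm_num [Nat.factorial] at h'

/-- Every group generated by a system with the certificate is the Mathieu group. -/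
theorem nonempty_iso {G : Type*} [Group G] {f : ℕ → G} {s : ℕ → G} (S : Sys data f s)
    (hG : Subgroup.closure (Sys.gensSet data f s) = ⊤) : Nonempty (G ≃* ↥M24) := by
  have : IsSimpleGroup ↥M24 := CfsgLib.Golay.M24_simple
  obtain ⟨φ, hφ, -, hr⟩ := exists_hom facts_ok end_ok S sys gen_top
    (by rw [card_M24]; decide +kernel)
  have hinj : Function.Injective φ := by
    rw [← MonoidHom.ker_eq_bot_iff]
    refine (Subgroup.Normal.eq_bot_or_eq_top inferInstance).resolve_right fun e => ?_
    have h1 : φ (fM 1) = 1 := MonoidHom.mem_ker.1 (e ▸ Subgroup.mem_top _)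
    rw [hφ 1 (by decide +kernel), ← S.one] at h1
    exact absurd (S.inj 1 0 (by decide +kernel) (by decide +kernel) h1) (by norm_num)
  exact ⟨(MulEquiv.ofBijective φ ⟨hinj, MonoidHom.range_eq_top.1 (hr.trans hG)⟩).symm⟩

end CfsgLib.HeType.Tri.Mathieu
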