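import Cfsg.Agent.Lib.HeType.Tri.Mathieu.KillData

/-!
# The impossible choices
-/

set_option autoImplicit false
set_option maxRecDepth 100000
set_option Elab.async false

namespace CfsgLib.HeType.Tri.Mathieu

variable {G : Type*} [Group G] {f : ℕ → G} {s : ℕ → G}

theorem bad115_ok : killOk bad115 1 [31] [7, 7, 11, 9, 9, 12, 9, 12] = true := by decide +kernel

theorem bad115_false (S : Sys bad115 f s) : False := S.false_of_killOk bad115_ok

theorem bad14689_ok : killOk bad14689 1 [31] [7, 7, 11, 9, 9, 12, 9, 12] = true := by decide +kernel

theorem bad14689_false (S : Sys bad14689 f s) : False := S.false_of_killOk bad14689_ok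

end CfsgLib.HeType.Tri.Mathieu
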