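import Cfsg.Agent.Lib.HeType.Tri.Kill
import Cfsg.Agent.Lib.HeType.Tri.Mathieu.Data

/-!
Generated data: choices of the values of the relations that no group satisfies.
-/

set_option autoImplicit false
set_option maxRecDepth 100000

namespace CfsgLib.HeType.Tri.Mathieu

/-- Certificate for one impossible choice. -/
def bad115 : Data where
  K := 1
  dgens := dgens
  rels := [
    [.s 0, .s 0, .s 0], [.c 8, .s 0, .c 8, .s 0, .c 16437],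
    [.c 648, .s 0, .c 648, .s 0, .c 648, .s 0, .c 648, .s 0, .c 648, .s 0, .c 115], [.s 1, .s 0], [.s 0, .s 1]]
  defs := [(0,0,0), (0,128,1)]
  facts := [
    (.pair 0 128 128, .def'),
    (.pair 0 256 256, .def'),
    (.pair 0 384 384, .def'),
    (.pair 0 1 1, .def'),
    (.pair 0 8 8, .def'),
    (.edge 0 0 0 0 1 0, .def'),
    (.edge 1 0 1 0 0 0, .walk ⟨0, 0, 0⟩ [.ext 0 5 [] []] [] (some (3, 0))),
    (.pair 1 15403 256, .walk ⟨256, 0, 0⟩ [.ext 0 5 [] [1]] [.ext 0 5 [5] []] none),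
    (.pair 1 1 64, .walk ⟨64, 0, 0⟩ [.ext 0 5 [] [2, 2]] [.ext 0 5 [1, 3, 1, 3] []] none),
    (.pair 1 18201 18176, .walk ⟨18176, 0, 0⟩ [.ext 0 5 [] [0, 0, 0, 0, 0, 2, 0]] [.ext 0 5 [5, 5, 7] []] none),
    (.pair 1 65 1, .walk ⟨1, 0, 0⟩ [.ext 0 5 [] [3]] [.ext 0 5 [0] []] none),
    (.pair 1 16425 5, .walk ⟨5, 0, 0⟩ [.ext 0 5 [] [0, 0, 0, 0, 0, 0, 3, 0]] [.ext 0 5 [0, 2] []] none),
    (.pair 1 20927 456, .walk ⟨456, 0, 0⟩ [.ext 0 5 [] [2, 4]] [.ext 0 5 [7, 3, 6, 7] []] none),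
    (.edge 0 9475 1 0 0 448, .walk ⟨0, 0, 0⟩ [.code 8, .code 16437, .ext 0 5 [0, 2, 5, 7, 6, 3] [2], .code 8] [] (some (1, 1))),
    (.edge 1 0 0 9475 1 384, .walk ⟨9475, 1, 0⟩ [.ext 0 13 [] []] [] (some (3, 0))),
    (.edge 0 20966 1 8 1 384, .walk ⟨8, 1, 0⟩ [.ext 0 13 [0, 2, 6, 7, 5] [], .ext 0 5 [0, 2, 4, 5, 7, 6] []] [] (some (0, 0))),
    (.edge 1 8 1 20966 1 448, .walk ⟨20966, 1, 0⟩ [.ext 0 15 [] []] [] (some (3, 0))),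
    (.edge 0 128 1 0 2 0, .def'),
    (.edge 1 0 2 128 1 0, .walk ⟨128, 1, 0⟩ [.ext 0 17 [] []] [] (some (3, 0))),
    (.pair 2 14553 64, .walk ⟨130, 1, 0⟩ [.ext 0 17 [] [8]] [.ext 0 17 [1] []] none),
    (.pair 2 16522 19456, .walk ⟨3470, 1, 0⟩ [.ext 0 17 [] [7, 9, 9]] [.ext 0 17 [6, 5, 2] []] none),
    (.pair 2 14552 1, .walk ⟨194, 1, 0⟩ [.ext 0 17 [] [10]] [.ext 0 17 [3, 1, 3] []] none),
    (.pair 2 14624 5, .walk ⟨3514, 1, 0⟩ [.ext 0 17 [] [11]] [.ext 0 17 [1, 6, 3, 5] []] none),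
    (.pair 2 14673 1224, .walk ⟨2064, 1, 0⟩ [.ext 0 17 [] [7, 12]] [.ext 0 17 [4, 7, 6] []] none),
    (.pair 2 16521 20472, .walk ⟨2071, 1, 0⟩ [.ext 0 17 [] [7, 9, 12, 9]] [.ext 0 17 [4, 7, 1, 6] []] none),
    (.edge 0 77 2 128 1 16450, .walk ⟨128, 1, 0⟩ [.code 8, .code 16437, .ext 0 17 [3, 5, 7, 4] [7, 7, 11, 9], .code 8] [] (some (1, 1))),
    (.edge 1 128 1 77 2 16387, .walk ⟨77, 2, 0⟩ [.ext 0 25 [] []] [] (some (3, 0))),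
    (.edge 0 16433 2 8 2 16387, .walk ⟨8, 2, 0⟩ [.ext 0 25 [0, 4, 2, 4] [], .ext 0 17 [4, 5, 7] []] [] (some (0, 0))),
    (.edge 1 8 2 16433 2 16450, .walk ⟨16433, 2, 0⟩ [.ext 0 27 [] []] [] (some (3, 0))),
    (.edge 0 713 2 4244 2 4035, .walk ⟨4244, 2, 0⟩ [.code 648, .code 115, .ext 0 25 [0, 3] [], .code 648, .ext 0 13 [0, 2, 5, 4, 6, 7] [], .code 648, .ext 0 5 [3, 6, 7, 1, 5] [0, 0, 0, 0, 0, 0], .code 648, .ext 0 17 [4, 7, 5] [], .code 648] [] (some (2, 1))),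
    (.edge 1 4244 2 713 2 6530, .walk ⟨713, 2, 0⟩ [.ext 0 29 [] []] [] (some (3, 0))),
    (.pair 1 50 16391, .walk ⟨144, 1, 0⟩ [.code 648, .code 115, .ext 0 17 [5, 7, 1, 6, 3, 5] [7, 7, 11, 7], .code 648, .ext 0 29 [0, 2, 4, 7, 6] [], .code 648, .ext 0 29 [0, 2, 5, 7, 6, 5] [], .code 648, .ext 0 29 [1, 4, 5, 7, 7, 5] [], .code 648, .ext 0 25 [0, 2, 3] []] [] (some (2, 1)))]
  live := []
  reps := []
  close := []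
  n := 0

/-- Certificate for one impossible choice. -/
def bad14689 : Data where
  K := 1
  dgens := dgens
  rels := [
    [.s 0, .s 0, .s 0], [.c 8, .s 0, .c 8, .s 0, .c 16437],
    [.c 648, .s 0, .c 648, .s 0, .c 648, .s 0, .c 648, .s 0, .c 648, .s 0, .c 14689], [.s 1, .s 0], [.s 0, .s 1]]
  defs := [(0,0,0), (0,128,1)]
  facts := [
    (.pair 0 128 128, .def'),
    (.pair 0 256 256, .def'),
    (.pair 0 384 384, .def'),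
    (.pair 0 1 1, .def'),
    (.pair 0 8 8, .def'),
    (.edge 0 0 0 0 1 0, .def'),
    (.edge 1 0 1 0 0 0, .walk ⟨0, 0, 0⟩ [.ext 0 5 [] []] [] (some (3, 0))),
    (.pair 1 15403 256, .walk ⟨256, 0, 0⟩ [.ext 0 5 [] [1]] [.ext 0 5 [5] []] none),
    (.pair 1 1 64, .walk ⟨64, 0, 0⟩ [.ext 0 5 [] [2, 2]] [.ext 0 5 [1, 3, 1, 3] []] none),
    (.pair 1 18201 18176, .walk ⟨18176, 0, 0⟩ [.ext 0 5 [] [0, 0, 0, 0, 0, 2, 0]] [.ext 0 5 [5, 5, 7] []] none),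
    (.pair 1 65 1, .walk ⟨1, 0, 0⟩ [.ext 0 5 [] [3]] [.ext 0 5 [0] []] none),
    (.pair 1 16425 5, .walk ⟨5, 0, 0⟩ [.ext 0 5 [] [0, 0, 0, 0, 0, 0, 3, 0]] [.ext 0 5 [0, 2] []] none),
    (.pair 1 20927 456, .walk ⟨456, 0, 0⟩ [.ext 0 5 [] [2, 4]] [.ext 0 5 [7, 3, 6, 7] []] none),
    (.edge 0 9475 1 0 0 448, .walk ⟨0, 0, 0⟩ [.code 8, .code 16437, .ext 0 5 [0, 2, 5, 7, 6, 3] [2], .code 8] [] (some (1, 1))),
    (.edge 1 0 0 9475 1 384, .walk ⟨9475, 1, 0⟩ [.ext 0 13 [] []] [] (some (3, 0))),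
    (.edge 0 20966 1 8 1 384, .walk ⟨8, 1, 0⟩ [.ext 0 13 [0, 2, 6, 7, 5] [], .ext 0 5 [0, 2, 4, 5, 7, 6] []] [] (some (0, 0))),
    (.edge 1 8 1 20966 1 448, .walk ⟨20966, 1, 0⟩ [.ext 0 15 [] []] [] (some (3, 0))),
    (.edge 0 128 1 0 2 0, .def'),
    (.edge 1 0 2 128 1 0, .walk ⟨128, 1, 0⟩ [.ext 0 17 [] []] [] (some (3, 0))),
    (.pair 2 14553 64, .walk ⟨130, 1, 0⟩ [.ext 0 17 [] [8]] [.ext 0 17 [1] []] none),
    (.pair 2 16522 19456, .walk ⟨3470, 1, 0⟩ [.ext 0 17 [] [7, 9, 9]] [.ext 0 17 [6, 5, 2] []] none),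
    (.pair 2 14552 1, .walk ⟨194, 1, 0⟩ [.ext 0 17 [] [10]] [.ext 0 17 [3, 1, 3] []] none),
    (.pair 2 14624 5, .walk ⟨3514, 1, 0⟩ [.ext 0 17 [] [11]] [.ext 0 17 [1, 6, 3, 5] []] none),
    (.pair 2 14673 1224, .walk ⟨2064, 1, 0⟩ [.ext 0 17 [] [7, 12]] [.ext 0 17 [4, 7, 6] []] none),
    (.pair 2 16521 20472, .walk ⟨2071, 1, 0⟩ [.ext 0 17 [] [7, 9, 12, 9]] [.ext 0 17 [4, 7, 1, 6] []] none),
    (.edge 0 77 2 128 1 16450, .walk ⟨128, 1, 0⟩ [.code 8, .code 16437, .ext 0 17 [3, 5, 7, 4] [7, 7, 11, 9], .code 8] [] (some (1, 1))),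
    (.edge 1 128 1 77 2 16387, .walk ⟨77, 2, 0⟩ [.ext 0 25 [] []] [] (some (3, 0))),
    (.edge 0 16433 2 8 2 16387, .walk ⟨8, 2, 0⟩ [.ext 0 25 [0, 4, 2, 4] [], .ext 0 17 [4, 5, 7] []] [] (some (0, 0))),
    (.edge 1 8 2 16433 2 16450, .walk ⟨16433, 2, 0⟩ [.ext 0 27 [] []] [] (some (3, 0))),
    (.edge 0 811 2 4244 2 4035, .walk ⟨4244, 2, 0⟩ [.code 648, .code 14689, .ext 0 25 [0, 1, 7, 6] [], .code 648, .ext 0 13 [2, 3, 5, 7, 7, 5] [], .code 648, .ext 0 5 [0, 7, 7, 2, 5] [0, 0, 0, 0, 0, 0], .code 648, .ext 0 17 [1, 7, 5, 7, 6] [], .code 648] [] (some (2, 1))),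
    (.edge 1 4244 2 811 2 6530, .walk ⟨811, 2, 0⟩ [.ext 0 29 [] []] [] (some (3, 0))),
    (.pair 1 50 16391, .walk ⟨144, 1, 0⟩ [.code 648, .code 14689, .ext 0 17 [0, 5, 4, 7] [7, 7, 11, 7], .code 648, .ext 0 29 [0, 4, 7, 1, 6] [], .code 648, .ext 0 29 [2, 5, 7, 6, 3, 5] [], .code 648, .ext 0 29 [1, 4, 5, 7, 7, 5] [], .code 648, .ext 0 25 [0, 2, 3] []] [] (some (2, 1)))]
  live := []
  reps := []
  close := []
  n := 0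

end CfsgLib.HeType.Tri.Mathieu
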